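import Groth.Agent.Flat2H.KoszulBC
import Groth.Prelude.Def_DRing2
import Mathlib.Data.Nat.Choose.Basic

/-!
# Cohomology of the Koszul complex on null-homotopic elements
-/

set_option autoImplicit false

universe u

open CategoryTheory Category Limits CochainComplex CochainComplex.HomComplex CochainComplex.mappingCone
open Groth.Agent.Flat2H.KoszulBasic Groth.Agent.Flat2H.KoszulReg

namespace K872.NullSum

variable {A : Type u} [CommRing A]

/-- If `y` is null-homotopic on `L`, the homology of the cone of `y` splits. -/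
lemma nonempty_cone1 {y : A} {L : CochainComplex (ModuleCat.{u} A) ℤ} (hy : NullH L y) (i j : ℤ) (hij : i + 1 = j) :
    Nonempty (((cone1 y L).homology i : Type u) ≃ₗ[A] (↥(L.homology i) × ↥(L.homology j))) := by
  obtain ⟨r, hr⟩ := hy.exists_retraction
  let a : (L.homology i : Type u) →ₗ[A] ((cone1 y L).homology i : Type u) :=
    (HomologicalComplex.homologyMap (inr (y • 𝟙 L)) i).hom
  let p : ((cone1 y L).homology i : Type u) →ₗ[A] (L.homology i : Type u) :=
    (HomologicalComplex.homologyMap r i).hom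
  let d : ((cone1 y L).homology i : Type u) →ₗ[A] (L.homology j : Type u) := (coneδ (y • 𝟙 L) i j hij).hom
  have hpa : ∀ z, p (a z) = z := by
    intro z
    have h1 : HomologicalComplex.homologyMap (inr (y • 𝟙 L)) i ≫ HomologicalComplex.homologyMap r i = 𝟙 _ := by
      rw [← HomologicalComplex.homologyMap_comp, hr, HomologicalComplex.homologyMap_id]
    exact LinearMap.congr_fun (congr_arg ModuleCat.Hom.hom h1) z
  have hda : ∀ z, d (a z) = 0 := fun z =>
    LinearMap.congr_fun (congr_arg ModuleCat.Hom.hom (cone_w₃ (y • 𝟙 L) i j hij)) z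
  have hex : ∀ z, d z = 0 → ∃ w, a w = z := by
    have h3 := cone_exact₃ (y • 𝟙 L) i j hij
    rw [ShortComplex.moduleCat_exact_iff] at h3
    exact h3
  have hd : Function.Surjective d := by
    have h1 := cone_exact₁ (y • 𝟙 L) i j hij
    rw [ShortComplex.moduleCat_exact_iff] at h1
    intro z
    apply h1
    change (HomologicalComplex.homologyMap (y • 𝟙 L) j).hom z = 0
    rw [homologyMap_smul_id, hy.homologyMap_eq_zero]
    rfl
  refine ⟨LinearEquiv.ofBijective (p.prod d) ⟨?_, ?_⟩⟩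
  · rw [injective_iff_map_eq_zero]
    intro z hz
    replace hz : (p z, d z) = 0 := hz
    rw [Prod.mk_eq_zero] at hz
    obtain ⟨w, rfl⟩ := hex z hz.2
    rw [hpa] at hz
    rw [hz.1, map_zero]
  · rintro ⟨u, v⟩
    obtain ⟨z, rfl⟩ := hd v
    refine ⟨z - a (p z) + a u, ?_⟩
    change (p _, d _) = _
    rw [Prod.mk.injEq]
    constructor
    · rw [map_add, map_sub, hpa, hpa, sub_self, zero_add]
    · rw [map_add, map_sub, hda, hda, sub_zero, add_zero]

section Comb

/-- Splitting off the zeroth factor of a product over `ℕ`. -/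
def piNat (M : ℕ → Type u) [∀ j, AddCommGroup (M j)] [∀ j, Module A (M j)] :
    ((j : ℕ) → M j) ≃ₗ[A] (M 0 × ((j : ℕ) → M (j + 1))) where
  toFun f := (f 0, fun j => f (j + 1))
  map_add' _ _ := rfl
  map_smul' _ _ := rfl
  invFun p := fun j => match j with
    | 0 => p.1
    | j + 1 => p.2 j
  left_inv f := by
    funext j
    cases j <;> rfl
  right_inv p := rfl

/-- Pascal. -/
noncomputable def pascal (N : Type u) [AddCommGroup N] [Module A N] (r j : ℕ) :
    (Fin ((r + 1).choose (j + 1)) → N) ≃ₗ[A] ((Fin (r.choose j) → N) × (Fin (r.choose (j + 1)) → N)) :=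
  (LinearEquiv.funCongrLeft A N (finSumFinEquiv.trans (finCongr (Nat.choose_succ_succ r j).symm))).trans
    (LinearEquiv.sumArrowLequivProdArrow _ _ A N)

/-- Exchange of products. -/
def exch (P Q : ℕ → Type u) [∀ j, AddCommGroup (P j)] [∀ j, Module A (P j)] [∀ j, AddCommGroup (Q j)]
    [∀ j, Module A (Q j)] : ((j : ℕ) → P j × Q j) ≃ₗ[A] (((j : ℕ) → P j) × ((j : ℕ) → Q j)) where
  toFun f := (fun j => (f j).1, fun j => (f j).2)
  map_add' _ _ := rfl
  map_smul' _ _ := rfl
  invFun p := fun j => (p.1 j, p.2 j)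
  left_inv _ := rfl
  right_inv _ := rfl

/-- Cast along an equality of degrees. -/
def degCast (H : ℤ → Type u) [∀ j, AddCommGroup (H j)] [∀ j, Module A (H j)] {a b : ℤ} (h : a = b) :
    H a ≃ₗ[A] H b := by
  subst h
  exact LinearEquiv.refl _ _

/-- The inductive step. -/
lemma nonempty_step (H : ℤ → Type u) [∀ j, AddCommGroup (H j)] [∀ j, Module A (H j)] (r : ℕ) (m : ℤ) :
    Nonempty ((((j : ℕ) → Fin (r.choose j) → H (m + j)) × ((j : ℕ) → Fin (r.choose j) → H (m + 1 + j))) ≃ₗ[A]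
      ((j : ℕ) → Fin ((r + 1).choose j) → H (m + j))) := by
  let e1 : ((j : ℕ) → Fin ((r + 1).choose j) → H (m + j)) ≃ₗ[A]
    ((Fin ((r + 1).choose 0) → H (m + (0 : ℕ))) × ((j : ℕ) → Fin ((r + 1).choose (j + 1)) → H (m + (j + 1 : ℕ)))) :=
    piNat (fun j => Fin ((r + 1).choose j) → H (m + j))
  have h2 : ∀ j : ℕ, m + (j + 1 : ℕ) = m + 1 + j := fun j => by push_cast; ring
  let e2' (j : ℕ) : (Fin ((r + 1).choose (j + 1)) → H (m + (j + 1 : ℕ))) ≃ₗ[A]
      ((Fin (r.choose j) → H (m + 1 + j)) × (Fin (r.choose (j + 1)) → H (m + (j + 1 : ℕ)))) :=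
    (pascal _ r j).trans
      (LinearEquiv.prodCongr (LinearEquiv.piCongrRight (fun _ => degCast H (h2 j)))
        (LinearEquiv.refl _ _))
  let e2 : ((j : ℕ) → Fin ((r + 1).choose (j + 1)) → H (m + (j + 1 : ℕ))) ≃ₗ[A]
      ((j : ℕ) → (Fin (r.choose j) → H (m + 1 + j)) × (Fin (r.choose (j + 1)) → H (m + (j + 1 : ℕ)))) :=
    LinearEquiv.piCongrRight e2'
  let e3 := exch (A := A) (fun j : ℕ => (Fin (r.choose j) → H (m + 1 + j)))
    (fun j : ℕ => (Fin (r.choose (j + 1)) → H (m + (j + 1 : ℕ))))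
  let e4 : ((j : ℕ) → Fin (r.choose j) → H (m + j)) ≃ₗ[A]
    ((Fin (r.choose 0) → H (m + (0 : ℕ))) × ((j : ℕ) → Fin (r.choose (j + 1)) → H (m + (j + 1 : ℕ)))) :=
    piNat (fun j => Fin (r.choose j) → H (m + j))
  let e5 : (Fin ((r + 1).choose 0) → H (m + (0 : ℕ))) ≃ₗ[A] (Fin (r.choose 0) → H (m + (0 : ℕ))) :=
    LinearEquiv.funCongrLeft A _ (finCongr (by simp))
  let e6 := LinearEquiv.prodCongr e5 (e2.trans e3)
  let e7 := LinearEquiv.prodCongr (LinearEquiv.refl A (Fin (r.choose 0) → H (m + (0 : ℕ))))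
    (LinearEquiv.prodComm A ((j : ℕ) → (Fin (r.choose j) → H (m + 1 + j)))
      ((j : ℕ) → (Fin (r.choose (j + 1)) → H (m + (j + 1 : ℕ)))))
  let e8 := (LinearEquiv.prodAssoc A (Fin (r.choose 0) → H (m + (0 : ℕ)))
      ((j : ℕ) → (Fin (r.choose (j + 1)) → H (m + (j + 1 : ℕ))))
      ((j : ℕ) → (Fin (r.choose j) → H (m + 1 + j)))).symm
  let e9 := LinearEquiv.prodCongr e4 (LinearEquiv.refl A ((j : ℕ) → (Fin (r.choose j) → H (m + 1 + j))))
  exact ⟨(e1.trans (e6.trans (e7.trans (e8.trans e9.symm)))).symm⟩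

/-- From products over `ℕ` to finite products. -/
lemma nonempty_fin (H : ℤ → Type u) [∀ j, AddCommGroup (H j)] [∀ j, Module A (H j)] (r : ℕ) (m : ℤ) :
    Nonempty (((j : ℕ) → Fin (r.choose j) → H (m + j)) ≃ₗ[A]
      ((j : Fin (r + 1)) → Fin (r.choose j) → H (m + (j : ℕ)))) := by
  let f : ((j : ℕ) → Fin (r.choose j) → H (m + j)) →ₗ[A]
      ((j : Fin (r + 1)) → Fin (r.choose j) → H (m + (j : ℕ))) :=
    { toFun := fun g j => g j
      map_add' := fun _ _ => rfl
      map_smul' := fun _ _ => rfl }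
  refine ⟨LinearEquiv.ofBijective f ⟨?_, ?_⟩⟩
  · intro g g' h
    funext j
    by_cases hj : j < r + 1
    · exact congr_fun h ⟨j, hj⟩
    · funext i
      have : r.choose j = 0 := Nat.choose_eq_zero_of_lt (by omega)
      rw [this] at i
      exact i.elim0
  · intro g
    refine ⟨fun j => if h : j < r + 1 then g ⟨j, h⟩ else 0, ?_⟩
    funext j
    exact dif_pos j.2

end Comb

/-- The cohomology of the Koszul complex on elements that are null-homotopic. -/
lemma nonempty_kos (ys : List A) (L : CochainComplex (ModuleCat.{u} A) ℤ) (hy : ∀ y ∈ ys, NullH L y) (m : ℤ) :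
    Nonempty (((kos ys L).homology m : Type u) ≃ₗ[A]
      ((j : ℕ) → Fin (ys.length.choose j) → (L.homology (m + j) : Type u))) := by
  induction ys generalizing m with
  | nil =>
    let H : ℤ → Type u := fun i => L.homology i
    let e1 : ((j : ℕ) → Fin ((0 : ℕ).choose j) → H (m + j)) ≃ₗ[A]
      ((Fin ((0 : ℕ).choose 0) → H (m + (0 : ℕ))) × ((j : ℕ) → Fin ((0 : ℕ).choose (j + 1)) → H (m + (j + 1 : ℕ)))) :=
      piNat (fun j => Fin ((0 : ℕ).choose j) → H (m + j))
    let e2 : (Fin ((0 : ℕ).choose 0) → H (m + (0 : ℕ))) ≃ₗ[A] H m :=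
      (LinearEquiv.funUnique (Fin 1) A _).trans (degCast H (by simp))
    have : Unique ((j : ℕ) → Fin ((0 : ℕ).choose (j + 1)) → H (m + (j + 1 : ℕ))) :=
      ⟨⟨0⟩, fun f => by
        funext j i
        exact i.elim0⟩
    exact ⟨((e1.trans (LinearEquiv.prodCongr e2 (LinearEquiv.refl _ _))).trans LinearEquiv.prodUnique).symm⟩
  | cons y ys ih =>
    have hy' : ∀ y ∈ ys, NullH L y := fun z hz => hy z (List.mem_cons_of_mem _ hz)
    obtain ⟨e⟩ := nonempty_cone1 (nullH_kos (hy y List.mem_cons_self) ys) m (m + 1) rfl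
    obtain ⟨e1⟩ := ih hy' m
    obtain ⟨e2⟩ := ih hy' (m + 1)
    obtain ⟨e3⟩ := nonempty_step (A := A) (fun i => (L.homology i : Type u)) ys.length m
    exact ⟨(e.trans (LinearEquiv.prodCongr e1 e2)).trans e3⟩

end K872.NullSum
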