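import Mathlib.Algebra.Category.ModuleCat.Limits
import Mathlib.Algebra.Category.ModuleCat.Abelian
import Mathlib.CategoryTheory.Limits.Types.Pullbacks
import Mathlib.CategoryTheory.Limits.Shapes.Pullback.IsPullback.Basic
import Mathlib.RingTheory.Ideal.Operations
import Mathlib.Algebra.GroupWithZero.NonZeroDivisors
import Mathlib.RingTheory.Regular.RegularSequence

/-!
# A cartesian square of quotients
-/

set_option autoImplicit false

universe u

open CategoryTheory CategoryTheory.Limits

namespace K872.Quot

variable {A : Type u} [CommRing A] {M : Type u} [AddCommGroup M] [Module A M]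

/-- If `x` acts injectively on `Z/B` then `Z/xB = Z/xZ ×_{Z/(B+xZ)} Z/B`. -/
theorem isPullback_factor (Z B : Submodule A M) (x : A) (hBZ : B ≤ Z)
    (hxH : IsSMulRegular (↥Z ⧸ Submodule.comap Z.subtype B) x) :
    IsPullback
      (ModuleCat.ofHom (Submodule.factor (Submodule.comap_mono (Submodule.smul_mono le_rfl hBZ) :
        Submodule.comap Z.subtype (Ideal.span {x} • B) ≤
          Submodule.comap Z.subtype (Ideal.span {x} • Z))))
      (ModuleCat.ofHom (Submodule.factor (Submodule.comap_mono (Submodule.smul_le_right) :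
        Submodule.comap Z.subtype (Ideal.span {x} • B) ≤
          Submodule.comap Z.subtype B)))
      (ModuleCat.ofHom (Submodule.factor (Submodule.comap_mono le_sup_right :
        Submodule.comap Z.subtype (Ideal.span {x} • Z) ≤
          Submodule.comap Z.subtype (B ⊔ Ideal.span {x} • Z))))
      (ModuleCat.ofHom (Submodule.factor (Submodule.comap_mono le_sup_left :
        Submodule.comap Z.subtype B ≤
          Submodule.comap Z.subtype (B ⊔ Ideal.span {x} • Z)))) := by
  refine IsPullback.of_map (forget (ModuleCat.{u} A)) ?_ ?_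
  · ext z
    rfl
  · rw [Types.isPullback_iff]
    refine ⟨?_, ?_, ?_⟩
    · ext z
      obtain ⟨z, rfl⟩ := Submodule.Quotient.mk_surjective _ z
      rfl
    · rintro a b ⟨h1, h2⟩
      obtain ⟨a, rfl⟩ := Submodule.Quotient.mk_surjective _ a
      obtain ⟨b, rfl⟩ := Submodule.Quotient.mk_surjective _ b
      replace h1 : (Submodule.Quotient.mk a : ↥Z ⧸ Submodule.comap Z.subtype (Ideal.span {x} • Z)) =
        Submodule.Quotient.mk b := h1
      replace h2 : (Submodule.Quotient.mk a : ↥Z ⧸ Submodule.comap Z.subtype B) =
        Submodule.Quotient.mk b := h2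
      rw [Submodule.Quotient.eq] at h1 h2 ⊢
      rw [Submodule.mem_comap, Submodule.ideal_span_singleton_smul,
        Submodule.mem_smul_pointwise_iff_exists] at h1 ⊢
      obtain ⟨z, hz, hz'⟩ := h1
      refine ⟨z, ?_, hz'⟩
      have h3 : x • (Submodule.Quotient.mk ⟨z, hz⟩ : ↥Z ⧸ Submodule.comap Z.subtype B) = x • 0 := by
        rw [smul_zero, ← Submodule.Quotient.mk_smul, Submodule.Quotient.mk_eq_zero]
        have h4 : x • (⟨z, hz⟩ : Z) = a - b := Subtype.ext hz'
        rw [h4]
        exact h2
      have h5 := hxH h3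
      rw [Submodule.Quotient.mk_eq_zero] at h5
      exact h5
    · intro a b h
      obtain ⟨a, rfl⟩ := Submodule.Quotient.mk_surjective _ a
      obtain ⟨b, rfl⟩ := Submodule.Quotient.mk_surjective _ b
      replace h : (Submodule.Quotient.mk a : ↥Z ⧸ Submodule.comap Z.subtype (B ⊔ Ideal.span {x} • Z)) =
        Submodule.Quotient.mk b := h
      rw [Submodule.Quotient.eq, Submodule.mem_comap, Submodule.mem_sup] at h
      obtain ⟨y, hy, z, hz, hyz⟩ := h
      have hz' : z ∈ Z := (Submodule.smul_le_right : Ideal.span {x} • Z ≤ Z) hz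
      refine ⟨Submodule.Quotient.mk (a - ⟨z, hz'⟩), ?_, ?_⟩
      · change (Submodule.Quotient.mk (a - ⟨z, hz'⟩) : ↥Z ⧸ Submodule.comap Z.subtype (Ideal.span {x} • Z)) =
          Submodule.Quotient.mk a
        rw [Submodule.Quotient.eq, Submodule.mem_comap]
        simpa using hz
      · change (Submodule.Quotient.mk (a - ⟨z, hz'⟩) : ↥Z ⧸ Submodule.comap Z.subtype B) =
          Submodule.Quotient.mk b
        rw [Submodule.Quotient.eq, Submodule.mem_comap]
        have h6 : Z.subtype (a - ⟨z, hz'⟩ - b) = y := by
          have : (Z.subtype (a - b) : M) - z = y := by rw [← hyz]; abel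
          rw [← this]
          simp
          abel
        rw [h6]
        exact hy

end K872.Quot
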