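import Groth.Agent.LoccohB.TenCx
import Groth.Agent.Flat2H.KoszulBasic
import Groth.Prelude.Def_Koszul

/-!
# The tensor product of complexes of modules commutes with mapping cones in the first variable
-/

set_option autoImplicit false

universe u

open CategoryTheory Limits MonoidalCategory CochainComplex CochainComplex.HomComplex
open CochainComplex.mappingCone Groth.Agent.LoccohB.TenCx

namespace K872.TensCone

variable {A : Type u} [CommRing A] {K L : DRing.Cx A} (φ : K ⟶ L) (E : DRing.Cx A)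

lemma inl_fst_apply (p q : ℤ) (h : q + 1 = p) (z : K.X p) :
    ((fst φ).1.v q p h).hom (((inl φ).v p q (by omega)).hom z) = z :=
  congr($(inl_v_fst_v φ p q h).hom z)

lemma inl_snd_apply (p q : ℤ) (h : p + (-1) = q) (z : K.X p) :
    ((snd φ).v q q (add_zero q)).hom (((inl φ).v p q h).hom z) = 0 :=
  congr($(inl_v_snd_v φ p q h).hom z)

lemma inr_fst_apply (p q : ℤ) (h : p + 1 = q) (z : L.X p) :
    ((fst φ).1.v p q h).hom (((inr φ).f p).hom z) = 0 :=
  congr($(inr_f_fst_v φ p q h).hom z)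

lemma inr_snd_apply (p : ℤ) (z : L.X p) :
    ((snd φ).v p p (add_zero p)).hom (((inr φ).f p).hom z) = z :=
  congr($(inr_f_snd_v φ p).hom z)

lemma id_apply (p q : ℤ) (h : p + 1 = q) (z : (mappingCone φ).X p) :
    ((inl φ).v q p (by omega)).hom (((fst φ).1.v p q h).hom z) +
      ((inr φ).f p).hom (((snd φ).v p p (add_zero p)).hom z) = z :=
  congr($(id_X φ p q h).hom z)

lemma d_fst_apply (i j k : ℤ) (hij : i + 1 = j) (hjk : j + 1 = k) (z : (mappingCone φ).X i) :
    ((fst φ).1.v j k hjk).hom (((mappingCone φ).d i j).hom z) =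
      - (K.d j k).hom (((fst φ).1.v i j hij).hom z) :=
  congr($(d_fst_v φ i j k hij hjk).hom z)

lemma d_snd_apply (i j : ℤ) (hij : i + 1 = j) (z : (mappingCone φ).X i) :
    ((snd φ).v j j (add_zero _)).hom (((mappingCone φ).d i j).hom z) =
      (φ.f j).hom (((fst φ).1.v i j hij).hom z) +
        (L.d i j).hom (((snd φ).v i i (add_zero i)).hom z) :=
  congr($(d_snd_v φ i j hij).hom z)

lemma inl_d_apply (i j k : ℤ) (hij : i + (-1) = j) (hik : k + (-1) = i) (z : K.X i) :
    ((mappingCone φ).d j i).hom (((inl φ).v i j hij).hom z) =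
      ((inr φ).f i).hom ((φ.f i).hom z) - ((inl φ).v k i hik).hom ((K.d i k).hom z) :=
  congr($(inl_v_d φ i j k hij hik).hom z)

lemma inr_d_apply (i j : ℤ) (z : L.X i) :
    ((mappingCone φ).d i j).hom (((inr φ).f i).hom z) = ((inr φ).f j).hom ((L.d i j).hom z) :=
  congr($(inr_f_d φ i j).hom z)

/-- The bilinear maps. -/
noncomputable def bil (p q n : ℤ) (h : p + q = n) :
    (mappingCone φ).X p →ₗ[A] E.X q →ₗ[A] (mappingCone (φ ▷ E)).X n :=
  ((tmk K E (p + 1) q (n + 1) (by omega)).compr₂ ((inl (φ ▷ E)).v (n + 1) n (by omega)).hom).comp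
      ((fst φ).1.v p (p + 1) rfl).hom +
    ((tmk L E p q n h).compr₂ ((inr (φ ▷ E)).f n).hom).comp ((snd φ).v p p (add_zero p)).hom

lemma bil_apply (p q n : ℤ) (h : p + q = n) (z : (mappingCone φ).X p) (y : E.X q) :
    bil φ E p q n h z y =
      ((inl (φ ▷ E)).v (n + 1) n (by omega)).hom
        (tmk K E (p + 1) q (n + 1) (by omega) (((fst φ).1.v p (p + 1) rfl).hom z) y) +
      ((inr (φ ▷ E)).f n).hom (tmk L E p q n h (((snd φ).v p p (add_zero p)).hom z) y) := rfl

lemma d_bil (p q n : ℤ) (h : p + q = n) (z : (mappingCone φ).X p) (y : E.X q) :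
    ((mappingCone (φ ▷ E)).d n (n + 1)).hom (bil φ E p q n h z y) =
        bil φ E (p + 1) q (n + 1) (by omega) (((mappingCone φ).d p (p + 1)).hom z) y +
        p.negOnePow • bil φ E p (q + 1) (n + 1) (by omega) z ((E.d q (q + 1)).hom y) := by
  rw [bil_apply, bil_apply, bil_apply, map_add, inl_d_apply (φ ▷ E) (n + 1) n (n + 1 + 1) (by omega) (by omega),
      inr_d_apply, d_tmk, d_tmk, d_fst_apply φ p (p + 1) (p + 1 + 1) rfl rfl, d_snd_apply φ p (p + 1) rfl]
  rw [whiskerRight_tmk]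
  simp only [map_add, map_neg, LinearMap.add_apply, LinearMap.neg_apply, Int.negOnePow_succ, smul_add,
      Units.smul_def, map_zsmul, Units.val_neg, neg_smul]
  abel

/-- The map `cone φ ⊗ E ⟶ cone (φ ▷ E)`. -/
noncomputable def coneHom : (mappingCone φ ⊗ E : DRing.Cx A) ⟶ mappingCone (φ ▷ E) :=
  homMk (K := mappingCone φ) (E := E) (L := mappingCone (φ ▷ E)) (fun p q n h => bil φ E p q n h) (d_bil φ E)

/-- The inverse map in degree `n`. -/
noncomputable def coneInv (n : ℤ) : (mappingCone (φ ▷ E)).X n ⟶ (mappingCone φ ⊗ E : DRing.Cx A).X n :=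
  (fst (φ ▷ E)).1.v n (n + 1) rfl ≫ descT (fun p q h => (tmk (mappingCone φ) E (p - 1) q n (by omega)).comp
    ((inl φ).v p (p - 1) (by omega)).hom) +
  (snd (φ ▷ E)).v n n (add_zero n) ≫ (inr φ ▷ E).f n

lemma coneInv_apply (n : ℤ) (z : (mappingCone (φ ▷ E)).X n) :
    (coneInv φ E n).hom z = (descT (fun p q h => (tmk (mappingCone φ) E (p - 1) q n (by omega)).comp
    ((inl φ).v p (p - 1) (by omega)).hom)).hom (((fst (φ ▷ E)).1.v n (n + 1) rfl).hom z) +
    ((inr φ ▷ E).f n).hom (((snd (φ ▷ E)).v n n (add_zero n)).hom z) := rfl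

lemma hom_inv (n : ℤ) : (coneHom φ E).f n ≫ coneInv φ E n = 𝟙 _ := by
  refine hom_ext_tmk fun p q h z y => ?_
  change (coneInv φ E n).hom (((coneHom φ E).f n).hom (tmk (mappingCone φ) E p q n h z y)) = _
  rw [coneHom, homMk_tmk, bil_apply, map_add, coneInv_apply, coneInv_apply]
  rw [inl_fst_apply, inl_snd_apply, inr_fst_apply, inr_snd_apply, map_zero, map_zero, add_zero, zero_add]
  rw [descT_tmk, whiskerRight_tmk]
  obtain ⟨p', rfl⟩ : ∃ p', p = p' := ⟨p, rfl⟩
  have key : ∀ (r : ℤ) (hr : r = p) (w : K.X (p + 1)), tmk (mappingCone φ) E r q n (by omega)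
      (((inl φ).v (p + 1) r (by omega)).hom w) y = tmk (mappingCone φ) E p q n (by omega)
      (((inl φ).v (p + 1) p (by omega)).hom w) y := by
    rintro r rfl w
    rfl
  have := key (p + 1 - 1) (by omega) (((fst φ).1.v p (p + 1) rfl).hom z)
  change tmk (mappingCone φ) E (p + 1 - 1) q n (by omega) (((inl φ).v (p + 1) (p + 1 - 1) (by omega)).hom
    (((fst φ).1.v p (p + 1) rfl).hom z)) y + _ = _
  rw [this, ← LinearMap.add_apply, ← map_add, id_apply]
  rfl

lemma inv_hom (n : ℤ) : coneInv φ E n ≫ (coneHom φ E).f n = 𝟙 _ := by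
  apply ext_from _ (n + 1) n rfl
  · refine hom_ext_tmk fun p q h x y => ?_
    change ((coneHom φ E).f n).hom ((coneInv φ E n).hom (((inl (φ ▷ E)).v (n + 1) n (by omega)).hom
      (tmk K E p q (n + 1) h x y))) = ((inl (φ ▷ E)).v (n + 1) n (by omega)).hom (tmk K E p q (n + 1) h x y)
    rw [coneInv_apply, inl_fst_apply, inl_snd_apply, map_zero, add_zero, descT_tmk]
    change ((coneHom φ E).f n).hom (tmk (mappingCone φ) E (p - 1) q n (by omega) (((inl φ).v p (p - 1) (by omega)).hom x) y) = _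
    rw [coneHom, homMk_tmk, bil_apply, inl_snd_apply, map_zero, LinearMap.zero_apply, map_zero, add_zero]
    congr 1
    have key : ∀ (r : ℤ) (hr : r = p), tmk K E r q (n + 1) (by omega)
        (((fst φ).1.v (p - 1) r (by omega)).hom (((inl φ).v p (p - 1) (by omega)).hom x)) y =
        tmk K E p q (n + 1) (by omega) x y := by
      rintro r rfl
      rw [inl_fst_apply]
    exact key _ (by omega)
  · refine hom_ext_tmk fun p q h x y => ?_
    change ((coneHom φ E).f n).hom ((coneInv φ E n).hom (((inr (φ ▷ E)).f n).hom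
      (tmk L E p q n h x y))) = ((inr (φ ▷ E)).f n).hom (tmk L E p q n h x y)
    rw [coneInv_apply, inr_fst_apply, inr_snd_apply, map_zero, zero_add, whiskerRight_tmk,
      coneHom, homMk_tmk, bil_apply, inr_fst_apply, inr_snd_apply, map_zero, LinearMap.zero_apply, map_zero, zero_add]

/-- `cone φ ⊗ E ≅ cone (φ ▷ E)`. -/
noncomputable def coneIso : (mappingCone φ ⊗ E : DRing.Cx A) ≅ mappingCone (φ ▷ E) :=
  HomologicalComplex.Hom.isoOfComponents (fun n =>
    { hom := (coneHom φ E).f n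
      inv := coneInv φ E n
      hom_inv_id := hom_inv φ E n
      inv_hom_id := inv_hom φ E n }) (fun i j _ => (coneHom φ E).comm i j)

lemma smul_whiskerRight (f : A) (K E : DRing.Cx A) : (f • 𝟙 K) ▷ E = f • 𝟙 (K ⊗ E : DRing.Cx A) := by
  refine HomologicalComplex.hom_ext _ _ fun n => hom_ext_tmk fun p q h x y => ?_
  rw [whiskerRight_tmk]
  change tmk K E p q n h (f • x) y = f • tmk K E p q n h x y
  rw [map_smul, LinearMap.smul_apply]

/-- `K(f) ⊗ K(g) ≅ K(f ++ g)`. -/
theorem nonempty_koszul_append (f g : List A) :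
    Nonempty ((Koszul.koszul A f ⊗ Koszul.koszul A g : DRing.Cx A) ≅ Koszul.koszul A (f ++ g)) := by
  induction f with
  | nil => exact ⟨MonoidalCategoryStruct.leftUnitor (C := DRing.Cx A) (Koszul.koszul A g)⟩
  | cons a f ih =>
    obtain ⟨e⟩ := ih
    refine ⟨coneIso (a • 𝟙 (Koszul.koszul A f)) (Koszul.koszul A g) ≪≫ eqToIso ?_ ≪≫
      Groth.Agent.Flat2H.KoszulBasic.cone1Iso a e⟩
    rw [smul_whiskerRight]

end K872.TensCone
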