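import Groth.Agent.Flat2H.KoszulReg
import Mathlib.RingTheory.Ideal.Operations
import Mathlib.Algebra.GroupWithZero.NonZeroDivisors

/-!
# The Koszul complex of `(x f_1, …, x f_n)`: the complex with the same terms and differential `x ∂`
-/

set_option autoImplicit false

universe w v u

open CategoryTheory Category Limits CochainComplex CochainComplex.HomComplex CochainComplex.mappingCone
open Groth.Agent.Flat2H.KoszulBasic Groth.Agent.Flat2H.KoszulReg

namespace K872.Twist

section General

variable {A : Type w} [CommRing A] {C : Type u} [Category.{v} C] [Preadditive C] [Linear A C]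

/-- `L` has the terms of `K`, with the differential multiplied by `x`. -/
structure TwIso (x : A) (K L : CochainComplex C ℤ) where
  /-- the isomorphisms of the terms -/
  e (i : ℤ) : L.X i ≅ K.X i
  /-- compatibility with the differentials -/
  comm (i j : ℤ) : L.d i j ≫ (e j).hom = (e i).hom ≫ (x • K.d i j)

variable [HasBinaryBiproducts C]

/-- The map of terms of the cones. -/
noncomputable def coneMap {f g : A} {K L : CochainComplex C ℤ}
    (a : ∀ i, L.X i ⟶ K.X i) (i : ℤ) : (cone1 g L).X i ⟶ (cone1 f K).X i :=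
  (fst (g • 𝟙 L)).1.v i (i + 1) rfl ≫ a (i + 1) ≫ (inl (f • 𝟙 K)).v (i + 1) i (by omega) +
    (snd (g • 𝟙 L)).v i i (by omega) ≫ a i ≫ (inr (f • 𝟙 K)).f i

@[reassoc]
lemma inl_coneMap {f g : A} {K L : CochainComplex C ℤ}
    (a : ∀ i, L.X i ⟶ K.X i) (j i : ℤ) (hij : j + (-1) = i) :
    (inl (g • 𝟙 L)).v j i hij ≫ coneMap (f := f) (g := g) a i =
      a j ≫ (inl (f • 𝟙 K)).v j i hij := by
  obtain rfl : j = i + 1 := by omega
  simp [coneMap]

@[reassoc]
lemma inr_coneMap {f g : A} {K L : CochainComplex C ℤ}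
    (a : ∀ i, L.X i ⟶ K.X i) (i : ℤ) :
    (inr (g • 𝟙 L)).f i ≫ coneMap (f := f) (g := g) a i = a i ≫ (inr (f • 𝟙 K)).f i := by
  simp [coneMap]

lemma coneMap_comp {f g h : A} {K L M : CochainComplex C ℤ}
    (a : ∀ i, L.X i ⟶ K.X i) (b : ∀ i, M.X i ⟶ L.X i) (i : ℤ) :
    coneMap (f := g) (g := h) b i ≫ coneMap (f := f) (g := g) a i =
      coneMap (f := f) (g := h) (fun i => b i ≫ a i) i := by
  apply ext_from _ (i + 1) i rfl
  · rw [inl_coneMap_assoc, inl_coneMap, inl_coneMap, assoc]
  · rw [inr_coneMap_assoc, inr_coneMap, inr_coneMap, assoc]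

lemma coneMap_id {f : A} {K : CochainComplex C ℤ} (i : ℤ) :
    coneMap (f := f) (g := f) (fun i => 𝟙 (K.X i)) i = 𝟙 _ := by
  apply ext_from _ (i + 1) i rfl
  · rw [inl_coneMap, id_comp, comp_id]
  · rw [inr_coneMap, id_comp, comp_id]

/-- The cone of `x f` on the twisted complex is the twist of the cone of `f`. -/
noncomputable def TwIso.cone {x : A} {K L : CochainComplex C ℤ} (t : TwIso x K L) (f : A) :
    TwIso x (cone1 f K) (cone1 (x * f) L) where
  e i :=
    { hom := coneMap (fun i => (t.e i).hom) i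
      inv := coneMap (fun i => (t.e i).inv) i
      hom_inv_id := by
        rw [coneMap_comp]
        convert coneMap_id (K := L) (f := x * f) i using 2
        simp
      inv_hom_id := by
        rw [coneMap_comp]
        convert coneMap_id (K := K) (f := f) i using 2
        simp }
  comm i j := by
    dsimp only
    by_cases hij : i + 1 = j
    · subst hij
      apply ext_from _ (i + 1) i rfl
      · rw [inl_v_d_assoc _ (i + 1) i (i + 1 + 1) (by omega) (by omega), inl_coneMap_assoc, Preadditive.sub_comp,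
          assoc, assoc, inl_coneMap, inr_coneMap, Linear.comp_smul, Linear.comp_smul,
          inl_v_d _ (i + 1) i (i + 1 + 1) (by omega) (by omega)]
        have := t.comm (i + 1) (i + 1 + 1)
        rw [reassoc_of% this]
        simp [smul_sub, mul_smul]
      · have := t.comm i (i + 1)
        rw [inr_f_d_assoc, inr_coneMap, inr_coneMap_assoc, Linear.comp_smul, inr_f_d, reassoc_of% this]
        simp
    · rw [HomologicalComplex.shape _ _ _ hij, HomologicalComplex.shape _ _ _ hij]
      simp

lemma mono_cone1_X {x f : A} {K : CochainComplex C ℤ} {i : ℤ} (h1 : Mono (x • 𝟙 (K.X (i + 1))))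
    (h2 : Mono (x • 𝟙 (K.X i))) : Mono (x • 𝟙 ((cone1 f K).X i)) := by
  refine ⟨fun {Z} g h hgh => ?_⟩
  rw [Linear.comp_smul, Linear.comp_smul, comp_id, comp_id] at hgh
  apply ext_to (f • 𝟙 K) i (i + 1) rfl
  · rw [← cancel_mono (x • 𝟙 (K.X (i + 1)))]
    rw [Linear.comp_smul, Linear.comp_smul, comp_id, comp_id, ← Linear.smul_comp, ← Linear.smul_comp, hgh]
  · rw [← cancel_mono (x • 𝟙 (K.X i))]
    rw [Linear.comp_smul, Linear.comp_smul, comp_id, comp_id, ← Linear.smul_comp, ← Linear.smul_comp, hgh]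

end General

section Ring

variable {A : Type u} [CommRing A]

/-- `K(x f_1, …, x f_n)` is the twist by `x` of `K(f_1, …, f_n)`. -/
noncomputable def twKoszul (x : A) : ∀ l : List A, TwIso x (Koszul.koszul A l) (Koszul.koszul A (l.map (fun f => x * f)))
  | [] =>
    { e := fun _ => Iso.refl _
      comm := fun i j => by
        have h : (Koszul.koszul A []).d i j = 0 := HomologicalComplex.single_obj_d _ _ _ _ _
        change (Koszul.koszul A []).d i j ≫ 𝟙 _ = 𝟙 _ ≫ (x • (Koszul.koszul A []).d i j)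
        rw [h, zero_comp, smul_zero, comp_zero] }
  | f :: l => (twKoszul x l).cone f

/-- `H^i` as a quotient of the kernel by the preimage of the range. -/
lemma nonempty_homology_iso (K : CochainComplex (ModuleCat.{u} A) ℤ) (q : ℤ) :
    Nonempty (K.homology q ≅ ModuleCat.of A (↥(LinearMap.ker (K.d q (q + 1)).hom) ⧸
        Submodule.comap (LinearMap.ker (K.d q (q + 1)).hom).subtype
          (LinearMap.range (K.d (q - 1) q).hom))) := by
  refine ⟨K.homologyIsoSc' (q - 1) q (q + 1) (by simp) (by simp) ≪≫ (K.sc' _ _ _).moduleCatHomologyIso ≪≫ ?_⟩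
  refine LinearEquiv.toModuleIso (Submodule.quotEquivOfEq _ _ ?_)
  ext z
  simp only [LinearMap.mem_range]
  refine exists_congr fun y => ?_
  exact Subtype.ext_iff

/-- A non-zero-divisor acts injectively on the terms of the Koszul complex. -/
lemma mono_koszul_X {x : A} (hx : x ∈ nonZeroDivisors A) (l : List A) (i : ℤ) :
    Mono (x • 𝟙 ((Koszul.koszul A l).X i)) := by
  induction l generalizing i with
  | nil =>
    by_cases hi : i = 0
    · subst hi
      have e : (Koszul.koszul A []).X 0 ≅ ModuleCat.of A A := HomologicalComplex.singleObjXSelf _ _ _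
      rw [mono_smul_id_iff, e.toLinearEquiv.isSMulRegular_congr x]
      exact fun a b h => (mul_cancel_left_mem_nonZeroDivisors hx).1 h
    · have h0 : IsZero ((Koszul.koszul A []).X i) := isZero_sgl_X (ModuleCat.of A A) i (by omega)
      exact ⟨fun _ _ _ => h0.eq_of_tgt _ _⟩
  | cons f l ih => exact mono_cone1_X (ih (i + 1)) (ih i)

lemma TwIso.comm_apply {x : A} {K L : CochainComplex (ModuleCat.{u} A) ℤ} (t : TwIso x K L) (i j : ℤ)
    (z : L.X i) : (t.e j).hom.hom ((L.d i j).hom z) = x • (K.d i j).hom ((t.e i).hom.hom z) :=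
  LinearMap.congr_fun (congr_arg ModuleCat.Hom.hom (t.comm i j)) z

/-- The cohomology of the twist: `Ker ∂ / x Im ∂`. -/
theorem TwIso.nonempty_homology_iso {x : A} {K L : CochainComplex (ModuleCat.{u} A) ℤ} (t : TwIso x K L) (q : ℤ)
    (hreg : IsSMulRegular (K.X (q + 1)) x) :
    Nonempty (L.homology q ≅ ModuleCat.of A (↥(LinearMap.ker (K.d q (q + 1)).hom) ⧸
        Submodule.comap (LinearMap.ker (K.d q (q + 1)).hom).subtype
          (Ideal.span {x} • LinearMap.range (K.d (q - 1) q).hom))) := by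
  obtain ⟨i1⟩ := Twist.nonempty_homology_iso L q
  refine ⟨i1 ≪≫ LinearEquiv.toModuleIso ?_⟩
  let e : L.X q ≃ₗ[A] K.X q := (t.e q).toLinearEquiv
  have he : ∀ z, e z = (t.e q).hom.hom z := fun _ => rfl
  have hk : LinearMap.ker (L.d q (q + 1)).hom =
      (LinearMap.ker (K.d q (q + 1)).hom).comap e.toLinearMap := by
    ext z
    rw [LinearMap.mem_ker, Submodule.mem_comap, LinearMap.mem_ker, LinearEquiv.coe_coe, he]
    have hinj : Function.Injective (t.e (q + 1)).hom.hom := (t.e (q + 1)).toLinearEquiv.injective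
    rw [← map_eq_zero_iff _ hinj, t.comm_apply]
    constructor
    · intro h
      exact hreg (by simpa using h)
    · intro h
      rw [h, smul_zero]
  let E : ↥(LinearMap.ker (L.d q (q + 1)).hom) ≃ₗ[A] ↥(LinearMap.ker (K.d q (q + 1)).hom) :=
    (LinearEquiv.ofEq _ _ hk).trans (e.ofSubmodule' _)
  have hE : ∀ z, ((E z : ↥(LinearMap.ker (K.d q (q + 1)).hom)) : K.X q) = e (z : L.X q) := fun _ => rfl
  refine Submodule.Quotient.equiv _ _ E ?_
  ext z
  obtain ⟨z, rfl⟩ := E.surjective z
  rw [Submodule.mem_map_equiv, E.symm_apply_apply, Submodule.mem_comap, Submodule.mem_comap,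
    Submodule.subtype_apply, Submodule.subtype_apply, hE, Submodule.ideal_span_singleton_smul,
    Submodule.mem_smul_pointwise_iff_exists, LinearMap.mem_range]
  constructor
  · rintro ⟨w, hw⟩
    refine ⟨(K.d (q - 1) q).hom ((t.e (q - 1)).hom.hom w), ⟨_, rfl⟩, ?_⟩
    rw [← t.comm_apply, hw, he]
  · rintro ⟨_, ⟨w, rfl⟩, hw⟩
    obtain ⟨w, rfl⟩ := (t.e (q - 1)).toLinearEquiv.surjective w
    refine ⟨w, e.injective ?_⟩
    rw [← hw, he]
    exact t.comm_apply (q - 1) q w

end Ring

end K872.Twist
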